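-- Team project OTS (S5972), package [COUNT] (helper53): the number of totally singular
-- m-spaces of the odd-dimensional orthogonal space divides prod_{j<m} (q^(2(d-j)) - 1).
import Mathlib
import Cfsg.Agent.Lib.Helper40.OTS.Defs
import Cfsg.Agent.Lib.Helper40.Elusive
import Cfsg.Agent.Lib.Helper14.Forms
import Cfsg.Agent.Lib.Helper45.OrthZeros

set_option autoImplicit false
set_option linter.unusedSectionVars false

namespace Cfsg.Agent.Lib.Helper53.OTS

open Module Matrix

universe u

/-- The ambient space. -/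
abbrev Vd (d : ℕ) (F : Type u) [Field F] : Type u := Unit ⊕ (Fin d ⊕ Fin d) → F

/-- The quadratic form. -/
noncomputable abbrev qO (d : ℕ) (F : Type u) [Field F] : QuadraticForm F (Vd d F) :=
  Cfsg.Agent.Lib.Helper14.oddQF d F

/-- The polar form. -/
noncomputable abbrev bO (d : ℕ) (F : Type u) [Field F] : LinearMap.BilinForm F (Vd d F) :=
  QuadraticMap.polarBilin (qO d F)

section basics

variable {F : Type u} [Field F] {d : ℕ}

theorem qO_apply (v : Vd d F) : qO d F v = Cfsg.quadFormOdd d F v :=
  congrFun (Cfsg.Agent.Lib.Helper14.oddQF_coe d F) v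

theorem bO_apply (u v : Vd d F) : bO d F u v = QuadraticMap.polar (qO d F) u v := rfl

theorem bO_comm (u v : Vd d F) : bO d F u v = bO d F v u := by
  rw [bO_apply, bO_apply, QuadraticMap.polar_comm]

theorem bO_self (v : Vd d F) : bO d F v v = 2 * qO d F v := by
  rw [bO_apply, QuadraticMap.polar_self]
  simp

theorem qO_zero_of_bO (h2 : (2 : F) ≠ 0) (v : Vd d F) (h : bO d F v v = 0) : qO d F v = 0 := by
  rw [bO_self] at h
  exact (mul_eq_zero.mp h).resolve_left h2

theorem qO_add_smul (v u : Vd d F) (c : F) :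
    qO d F (v + c • u) = qO d F v + c * bO d F u v + c ^ 2 * qO d F u := by
  have h1 : QuadraticMap.polar (qO d F) v (c • u) =
      qO d F (v + c • u) - qO d F v - qO d F (c • u) := rfl
  rw [QuadraticMap.polar_smul_right, QuadraticMap.map_smul, QuadraticMap.polar_comm] at h1
  rw [bO_apply]
  simp only [smul_eq_mul] at h1
  linear_combination -h1

theorem bO_add_smul (w v u : Vd d F) (c : F) :
    bO d F w (v + c • u) = bO d F w v + c * bO d F w u := by
  rw [map_add, map_smul, smul_eq_mul]

/-- the polar form vanishes on a totally singular set closed under addition. -/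
theorem bO_zero_of_q (u v : Vd d F) (hu : qO d F u = 0) (hv : qO d F v = 0)
    (huv : qO d F (u + v) = 0) : bO d F u v = 0 := by
  rw [bO_apply]
  show qO d F (u + v) - qO d F u - qO d F v = 0
  rw [hu, hv, huv]
  ring

end basics

section count

open scoped Classical

variable {F : Type u} [Field F] [Fintype F] {d : ℕ}

/-- the number of vectors orthogonal to an independent `k`-tuple. -/
theorem card_perp_tuple (h2 : (2 : F) ≠ 0) {k : ℕ} (x : Fin k → Vd d F)
    (hx : LinearIndependent F x) :
    (Finset.univ.filter (fun v : Vd d F => ∀ i, bO d F (x i) v = 0)).card =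
      Fintype.card F ^ (2 * d + 1 - k) := by
  classical
  set U := Submodule.span F (Set.range x) with hU
  have hperp : ∀ v : Vd d F, (∀ i, bO d F (x i) v = 0) ↔ v ∈ (bO d F).orthogonal U := by
    intro v
    rw [LinearMap.BilinForm.mem_orthogonal_iff]
    constructor
    · intro h u hu
      induction hu using Submodule.span_induction with
      | mem a ha =>
        obtain ⟨i, rfl⟩ := ha
        exact h i
      | zero => simp
      | add a a' _ _ h1 h2 => rw [map_add, LinearMap.add_apply, h1, h2, add_zero]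
      | smul c a _ h1 => rw [map_smul, LinearMap.smul_apply, h1, smul_zero]
    · intro h i
      exact h _ (Submodule.subset_span ⟨i, rfl⟩)
  have hfU : finrank F U = k := by
    rw [hU, finrank_span_eq_card hx, Fintype.card_fin]
  have hfO : finrank F ((bO d F).orthogonal U) = 2 * d + 1 - k := by
    rw [LinearMap.BilinForm.finrank_orthogonal
      (Cfsg.Agent.Lib.Helper14.oddQF_nondegenerate d F h2), hfU,
      Module.finrank_fintype_fun_eq_card, Fintype.card_sum, Fintype.card_sum, Fintype.card_fin,
      Fintype.card_unit]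
    omega
  have hcO : Fintype.card ((bO d F).orthogonal U) = (Fintype.card F) ^ (2 * d + 1 - k) := by
    rw [Module.card_eq_pow_finrank (K := F), hfO]
  rw [← hcO]
  exact (Fintype.card_of_subtype _ (fun v => by
    simp only [Finset.mem_filter, Finset.mem_univ, true_and]
    exact hperp v)).symm

/-- the key bijection `(v, c) ↦ v + c u`. -/
theorem card_step {k : ℕ} (x : Fin k → Vd d F) (u : Vd d F)
    (hQu : qO d F u = 0) (hBuu : bO d F u u = 0) (hxu : ∀ i, bO d F (x i) u = 0) :
    (Finset.univ.filter (fun v : Vd d F =>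
        (qO d F v = 0 ∧ ∀ i, bO d F (x i) v = 0) ∧ ¬ bO d F u v = 0)).card * Fintype.card F =
    (Finset.univ.filter (fun v : Vd d F =>
        (∀ i, bO d F (x i) v = 0) ∧ ¬ bO d F u v = 0)).card := by
  classical
  rw [← Finset.card_univ (α := F), ← Finset.card_product]
  apply Finset.card_nbij' (fun p => p.1 + p.2 • u)
    (fun w => (w - (qO d F w / bO d F u w) • u, qO d F w / bO d F u w))
  · rintro ⟨v, c⟩ hp
    simp only [Finset.coe_product, Finset.coe_filter, Finset.mem_univ, true_and,
      Finset.coe_univ, Set.mem_prod, Set.mem_ofPred_eq, Set.mem_univ, and_true] at hp ⊢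
    obtain ⟨⟨hQv, hxv⟩, huv⟩ := hp
    refine ⟨fun i => ?_, ?_⟩
    · rw [bO_add_smul, hxv i, hxu i, mul_zero, add_zero]
    · rw [bO_add_smul, hBuu, mul_zero, add_zero]
      exact huv
  · intro w hw
    simp only [Finset.coe_product, Finset.coe_filter, Finset.mem_univ, true_and,
      Finset.coe_univ, Set.mem_prod, Set.mem_ofPred_eq, Set.mem_univ, and_true] at hw ⊢
    obtain ⟨hxw, huw⟩ := hw
    have hsub : w - (qO d F w / bO d F u w) • u = w + (-(qO d F w / bO d F u w)) • u := by
      rw [neg_smul, sub_eq_add_neg]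
    rw [hsub]
    refine ⟨⟨?_, fun i => ?_⟩, ?_⟩
    · rw [qO_add_smul, hQu]
      field_simp
      ring
    · rw [bO_add_smul, hxw i, hxu i, mul_zero, add_zero]
    · rw [bO_add_smul, hBuu, mul_zero, add_zero]
      exact huw
  · rintro ⟨v, c⟩ hp
    simp only [Finset.coe_product, Finset.coe_filter, Finset.mem_univ, true_and,
      Finset.coe_univ, Set.mem_prod, Set.mem_ofPred_eq, Set.mem_univ, and_true] at hp
    obtain ⟨⟨hQv, hxv⟩, huv⟩ := hp
    have h1 : qO d F (v + c • u) = c * bO d F u v := by
      rw [qO_add_smul, hQv, hQu]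
      ring
    have h2 : bO d F u (v + c • u) = bO d F u v := by
      rw [bO_add_smul, hBuu, mul_zero, add_zero]
    have h3 : qO d F (v + c • u) / bO d F u (v + c • u) = c := by
      rw [h1, h2]
      field_simp
    show (v + c • u - (qO d F (v + c • u) / bO d F u (v + c • u)) • u,
      qO d F (v + c • u) / bO d F u (v + c • u)) = (v, c)
    rw [h3, add_sub_cancel_right]
  · intro w _
    show w - (qO d F w / bO d F u w) • u + (qO d F w / bO d F u w) • u = w
    rw [sub_add_cancel]

/-- the number of singular vectors orthogonal to a totally singular independent `k`-tuple. -/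
theorem card_sing_perp (h2 : (2 : F) ≠ 0) :
    ∀ (k : ℕ) (x : Fin k → Vd d F), LinearIndependent F x →
      (∀ i j, bO d F (x i) (x j) = 0) → k ≤ 2 * d →
      (Finset.univ.filter (fun v : Vd d F =>
        qO d F v = 0 ∧ ∀ i, bO d F (x i) v = 0)).card = Fintype.card F ^ (2 * d - k) := by
  intro k
  induction k with
  | zero =>
    intro x _ _ _
    have h := Cfsg.Agent.Lib.Helper45.card_zeros_odd (F := F) rfl d
    rw [Nat.card_eq_fintype_card] at h
    rw [Nat.sub_zero, ← h]
    refine (Fintype.card_of_subtype _ (fun v => ?_)).symm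
    simp only [Finset.mem_filter, Finset.mem_univ, true_and]
    rw [qO_apply]
    exact ⟨fun h => h.1, fun h => ⟨h, fun i => i.elim0⟩⟩
  | succ k ih =>
    intro x' hx' hB hk
    have hx : LinearIndependent F (fun i : Fin k => x' i.castSucc) :=
      hx'.comp _ (Fin.castSucc_injective k)
    have ih' := ih (fun i : Fin k => x' i.castSucc) hx (fun i j => hB _ _) (by omega)
    have hA0 := card_perp_tuple h2 (fun i : Fin k => x' i.castSucc) hx
    have hA1 := card_perp_tuple h2 x' hx'
    have hBuu : bO d F (x' (Fin.last k)) (x' (Fin.last k)) = 0 := hB _ _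
    have hQu : qO d F (x' (Fin.last k)) = 0 := qO_zero_of_bO h2 _ hBuu
    have hst := card_step (fun i : Fin k => x' i.castSucc) (x' (Fin.last k)) hQu hBuu
      (fun i => hB _ _)
    have hS1 : Finset.univ.filter (fun v : Vd d F => qO d F v = 0 ∧ ∀ i, bO d F (x' i) v = 0) =
        Finset.univ.filter (fun v : Vd d F =>
          (qO d F v = 0 ∧ ∀ i : Fin k, bO d F (x' i.castSucc) v = 0) ∧
            bO d F (x' (Fin.last k)) v = 0) := by
      ext v
      simp only [Finset.mem_filter, Finset.mem_univ, true_and]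
      rw [Fin.forall_fin_succ', and_assoc]
    have hP1 : Finset.univ.filter (fun v : Vd d F => ∀ i, bO d F (x' i) v = 0) =
        Finset.univ.filter (fun v : Vd d F =>
          (∀ i : Fin k, bO d F (x' i.castSucc) v = 0) ∧ bO d F (x' (Fin.last k)) v = 0) := by
      ext v
      simp only [Finset.mem_filter, Finset.mem_univ, true_and]
      rw [Fin.forall_fin_succ']
    have hsplitS := Finset.card_filter_add_card_filter_not
      (s := Finset.univ.filter (fun v : Vd d F =>
        qO d F v = 0 ∧ ∀ i : Fin k, bO d F (x' i.castSucc) v = 0))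
      (fun v => bO d F (x' (Fin.last k)) v = 0)
    have hsplitP := Finset.card_filter_add_card_filter_not
      (s := Finset.univ.filter (fun v : Vd d F => ∀ i : Fin k, bO d F (x' i.castSucc) v = 0))
      (fun v => bO d F (x' (Fin.last k)) v = 0)
    simp only [Finset.filter_filter] at hsplitS hsplitP
    rw [hS1]
    rw [hP1] at hA1
    rw [ih'] at hsplitS
    rw [hA0] at hsplitP
    rw [← hst, hA1] at hsplitP
    have hq : 0 < Fintype.card F := Fintype.card_pos
    obtain ⟨e, he⟩ : ∃ e, 2 * d = k + 1 + e := ⟨2 * d - (k + 1), by omega⟩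
    have e1 : 2 * d - k = e + 1 := by omega
    have e2 : 2 * d + 1 - k = e + 2 := by omega
    have e3 : 2 * d + 1 - (k + 1) = e + 1 := by omega
    have e4 : 2 * d - (k + 1) = e := by omega
    rw [e1] at hsplitS
    rw [e2, e3] at hsplitP
    rw [e4]
    have hpow1 : Fintype.card F ^ (e + 1) = Fintype.card F * Fintype.card F ^ e := pow_succ' _ _
    have hpow2 : Fintype.card F ^ (e + 2) = Fintype.card F * (Fintype.card F * Fintype.card F ^ e) := by
      rw [pow_succ', pow_succ']
    rw [hpow1] at hsplitS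
    rw [hpow1, hpow2] at hsplitP
    generalize Fintype.card F ^ e = X at hsplitS hsplitP ⊢
    generalize (Finset.univ.filter (fun v : Vd d F =>
          (qO d F v = 0 ∧ ∀ i : Fin k, bO d F (x' i.castSucc) v = 0) ∧
            bO d F (x' (Fin.last k)) v = 0)).card = a at hsplitS ⊢
    generalize (Finset.univ.filter (fun v : Vd d F =>
          (qO d F v = 0 ∧ ∀ i : Fin k, bO d F (x' i.castSucc) v = 0) ∧
            ¬ bO d F (x' (Fin.last k)) v = 0)).card = t at hsplitS hsplitP
    have h5 : Fintype.card F * (X + t) = Fintype.card F * (Fintype.card F * X) := by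
      rw [Nat.mul_add]
      linarith
    have h6 := Nat.eq_of_mul_eq_mul_left hq h5
    omega

/-- linearly independent totally singular `k`-tuples. -/
def tsTuples (d : ℕ) (F : Type u) [Field F] (k : ℕ) : Set (Fin k → Vd d F) :=
  {x | LinearIndependent F x ∧ ∀ i j, bO d F (x i) (x j) = 0}

theorem span_perp {k : ℕ} (x : Fin k → Vd d F) (hx : ∀ i j, bO d F (x i) (x j) = 0) :
    ∀ v ∈ Submodule.span F (Set.range x), ∀ w ∈ Submodule.span F (Set.range x),
      bO d F w v = 0 := by
  have hUperp : ∀ v ∈ Submodule.span F (Set.range x), ∀ i, bO d F (x i) v = 0 := by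
    intro v hv i
    induction hv using Submodule.span_induction with
    | mem a ha =>
      obtain ⟨j, rfl⟩ := ha
      exact hx i j
    | zero => simp
    | add a a' _ _ h1 h2 => rw [map_add, h1, h2, add_zero]
    | smul c a _ h1 => rw [map_smul, h1, smul_zero]
  intro v hv w hw
  induction hw using Submodule.span_induction with
  | mem a ha =>
    obtain ⟨j, rfl⟩ := ha
    exact hUperp v hv j
  | zero => simp
  | add a a' _ _ h1 h2 => rw [map_add, LinearMap.add_apply, h1, h2, add_zero]
  | smul c a _ h1 => rw [map_smul, LinearMap.smul_apply, h1, smul_zero]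

theorem span_sing (h2 : (2 : F) ≠ 0) {k : ℕ} (x : Fin k → Vd d F)
    (hx : ∀ i j, bO d F (x i) (x j) = 0) :
    ∀ v ∈ Submodule.span F (Set.range x), qO d F v = 0 :=
  fun v hv => qO_zero_of_bO h2 v (span_perp x hx v hv v hv)

/-- the number of admissible extensions of a totally singular tuple. -/
theorem card_tsTuples_fiber (h2 : (2 : F) ≠ 0) {k : ℕ} (x : Fin k → Vd d F)
    (hx : x ∈ tsTuples d F k) (hk : k ≤ 2 * d) :
    Nat.card {v : Vd d F // (qO d F v = 0 ∧ ∀ i, bO d F (x i) v = 0) ∧
        v ∉ Submodule.span F (Set.range x)} =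
      Fintype.card F ^ (2 * d - k) - Fintype.card F ^ k := by
  set U := Submodule.span F (Set.range x) with hU
  have hfU : finrank F U = k := by rw [hU, finrank_span_eq_card hx.1, Fintype.card_fin]
  have hcU : Fintype.card U = Fintype.card F ^ k := by
    rw [Module.card_eq_pow_finrank (K := F), hfU]
  have hS := card_sing_perp h2 k x hx.1 hx.2 hk
  have hUf : (Finset.univ.filter (fun v : Vd d F => v ∈ U)).card = Fintype.card F ^ k := by
    rw [← hcU]
    exact (Fintype.card_of_subtype _ (fun v => by
      simp only [Finset.mem_filter, Finset.mem_univ, true_and])).symm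
  have hsub : Finset.univ.filter (fun v : Vd d F => v ∈ U) ⊆
      Finset.univ.filter (fun v : Vd d F => qO d F v = 0 ∧ ∀ i, bO d F (x i) v = 0) := by
    intro v hv
    simp only [Finset.mem_filter, Finset.mem_univ, true_and] at hv ⊢
    exact ⟨span_sing h2 x hx.2 v hv, fun i =>
      span_perp x hx.2 v hv (x i) (Submodule.subset_span ⟨i, rfl⟩)⟩
  rw [Nat.card_eq_fintype_card, Fintype.card_of_subtype
    ((Finset.univ.filter (fun v : Vd d F => qO d F v = 0 ∧ ∀ i, bO d F (x i) v = 0)) \
      (Finset.univ.filter (fun v : Vd d F => v ∈ U))) (fun v => by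
        simp only [Finset.mem_sdiff, Finset.mem_filter, Finset.mem_univ, true_and]),
    Finset.card_sdiff_of_subset hsub, hS, hUf]

theorem sigma_ext_aux {α W : Type*} {P : α → Prop} {R : α → W → Prop} (a a' : α)
    (ha : P a) (ha' : P a') (v v' : W) (hv : R a v) (hv' : R a' v') (h1 : a = a')
    (h2 : v = v') :
    (⟨⟨a, ha⟩, ⟨v, hv⟩⟩ : Σ x : {x // P x}, {v : W // R x.1 v}) = ⟨⟨a', ha'⟩, ⟨v', hv'⟩⟩ := by
  subst h1
  subst h2
  rfl

/-- totally singular `(k+1)`-tuples as extensions of totally singular `k`-tuples. -/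
noncomputable def tsTuplesSuccEquiv (h2 : (2 : F) ≠ 0) (k : ℕ) :
    ↥(tsTuples d F (k + 1)) ≃ Σ x : ↥(tsTuples d F k),
      {v : Vd d F // (qO d F v = 0 ∧ ∀ i, bO d F (x.1 i) v = 0) ∧
        v ∉ Submodule.span F (Set.range x.1)} where
  toFun z := ⟨⟨Fin.init z.1, by
      have h := z.2.1
      rw [← Fin.snoc_init_self z.1, linearIndependent_finSnoc] at h
      exact ⟨h.1, fun i j => z.2.2 _ _⟩⟩, ⟨z.1 (Fin.last k), by
      have h := z.2.1
      rw [← Fin.snoc_init_self z.1, linearIndependent_finSnoc] at h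
      exact ⟨⟨qO_zero_of_bO h2 _ (z.2.2 _ _), fun i => z.2.2 _ _⟩, h.2⟩⟩⟩
  invFun p := ⟨Fin.snoc p.1.1 p.2.1, by
      refine ⟨linearIndependent_finSnoc.mpr ⟨p.1.2.1, p.2.2.2⟩, ?_⟩
      intro i j
      induction i using Fin.lastCases with
      | last =>
        induction j using Fin.lastCases with
        | last => rw [Fin.snoc_last, bO_self, p.2.2.1.1, mul_zero]
        | cast j =>
          rw [Fin.snoc_last, Fin.snoc_castSucc, bO_comm, p.2.2.1.2 j]
      | cast i =>
        induction j using Fin.lastCases with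
        | last => rw [Fin.snoc_last, Fin.snoc_castSucc, p.2.2.1.2 i]
        | cast j => rw [Fin.snoc_castSucc, Fin.snoc_castSucc, p.1.2.2 i j]⟩
  left_inv z := by
    apply Subtype.ext
    exact Fin.snoc_init_self z.1
  right_inv p := by
    obtain ⟨⟨x, hx⟩, ⟨v, hv⟩⟩ := p
    have h1 : Fin.init (Fin.snoc x v : Fin (k + 1) → Vd d F) = x := Fin.init_snoc _ _
    have h2' : (Fin.snoc x v : Fin (k + 1) → Vd d F) (Fin.last k) = v := Fin.snoc_last _ _
    exact sigma_ext_aux (P := fun x => x ∈ tsTuples d F k)
      (R := fun x v => (qO d F v = 0 ∧ ∀ i, bO d F (x i) v = 0) ∧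
        v ∉ Submodule.span F (Set.range x)) _ _ _ _ _ _ _ _ h1 h2'

theorem card_tsTuples (h2 : (2 : F) ≠ 0) (k : ℕ) (hk : k ≤ d) :
    Nat.card ↥(tsTuples d F k) =
      ∏ i ∈ Finset.range k, (Fintype.card F ^ (2 * d - i) - Fintype.card F ^ i) := by
  induction k with
  | zero =>
    rw [Finset.prod_range_zero]
    have : Unique ↥(tsTuples d F 0) :=
      { default := ⟨fun i => i.elim0, linearIndependent_empty_type, fun i => i.elim0⟩
        uniq := fun z => Subtype.ext (funext fun i => i.elim0) }
    exact Nat.card_unique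
  | succ k ih =>
    have := Fintype.ofFinite ↥(tsTuples d F k)
    rw [Nat.card_congr (tsTuplesSuccEquiv h2 k), Nat.card_sigma, Finset.prod_range_succ,
      ← ih (by omega)]
    rw [Finset.sum_congr rfl (fun x _ => card_tsTuples_fiber h2 x.1 x.2 (by omega)),
      Finset.sum_const, Finset.card_univ, smul_eq_mul, Nat.card_eq_fintype_card]

/-- Counting totally singular subspaces through their ordered bases. -/
theorem card_ts_mul (h2 : (2 : F) ≠ 0) (m : ℕ) (hm : m ≤ d) :
    Nat.card {W : Submodule F (Vd d F) //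
        finrank F W = m ∧ ∀ w ∈ W, Cfsg.quadFormOdd d F w = 0} *
      ∏ j : Fin m, (Fintype.card F ^ m - Fintype.card F ^ j.val) =
    ∏ i ∈ Finset.range m, (Fintype.card F ^ (2 * d - i) - Fintype.card F ^ i) := by
  rw [← card_tsTuples h2 m hm]
  let φ : ↥(tsTuples d F m) → {W : Submodule F (Vd d F) //
      finrank F W = m ∧ ∀ w ∈ W, Cfsg.quadFormOdd d F w = 0} :=
    fun s => ⟨Submodule.span F (Set.range s.1), by
      rw [finrank_span_eq_card s.2.1, Fintype.card_fin],
      fun w hw => by
        rw [← qO_apply]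
        exact span_sing h2 s.1 s.2.2 w hw⟩
  rw [← Nat.card_congr (Equiv.sigmaFiberEquiv φ), Nat.card_sigma]
  have h3 : ∀ W : {W : Submodule F (Vd d F) //
      finrank F W = m ∧ ∀ w ∈ W, Cfsg.quadFormOdd d F w = 0},
      Nat.card {s : ↥(tsTuples d F m) // φ s = W} =
        ∏ j : Fin m, (Fintype.card F ^ m - Fintype.card F ^ j.val) := by
    intro W
    rw [← Cfsg.Agent.Lib.Helper40.Elusive.card_fib m W.1 W.2.1]
    apply Nat.card_congr
    have hWq : ∀ w ∈ W.1, qO d F w = 0 := fun w hw => by
      rw [qO_apply]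
      exact W.2.2 w hw
    exact
      { toFun := fun s => ⟨⟨s.1.1, s.1.2.1⟩, congrArg Subtype.val s.2⟩
        invFun := fun s => ⟨⟨s.1.1, s.1.2, fun i j => bO_zero_of_q _ _
            (hWq _ (s.2.le (Submodule.subset_span ⟨i, rfl⟩)))
            (hWq _ (s.2.le (Submodule.subset_span ⟨j, rfl⟩)))
            (hWq _ (W.1.add_mem (s.2.le (Submodule.subset_span ⟨i, rfl⟩))
              (s.2.le (Submodule.subset_span ⟨j, rfl⟩))))⟩,
          Subtype.ext s.2⟩
        left_inv := fun s => rfl
        right_inv := fun s => rfl }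
  rw [Finset.sum_congr rfl (fun W _ => h3 W), Finset.sum_const, Finset.card_univ,
    smul_eq_mul, Nat.card_eq_fintype_card]

theorem two_ne_zero_of_odd (hq : Odd (Fintype.card F)) : (2 : F) ≠ 0 := by
  apply Ring.two_ne_zero
  intro h
  rw [FiniteField.even_card_iff_char_two] at h
  rw [Nat.odd_iff] at hq
  omega

end count

/-- **[COUNT]** -/
theorem pkgCount : Cfsg.Agent.Lib.Helper40.OTS.PkgCount.{u} := by
  intro F _ _ d m hodd hm
  have h2 : (2 : F) ≠ 0 := two_ne_zero_of_odd hodd
  have hq : 2 ≤ Fintype.card F := Fintype.one_lt_card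
  have h1 := card_ts_mul (F := F) (d := d) h2 m hm
  rw [Cfsg.Agent.Lib.Helper40.Elusive.prod_li _ _ _ le_rfl] at h1
  have h2' : ∏ i ∈ Finset.range m, (Fintype.card F ^ (2 * d - i) - Fintype.card F ^ i) =
      (∏ j ∈ Finset.range m, Fintype.card F ^ j) *
        ∏ j ∈ Finset.range m, (Fintype.card F ^ (2 * (d - j)) - 1) := by
    rw [← Finset.prod_mul_distrib]
    apply Finset.prod_congr rfl
    intro j hj
    have hj' := Finset.mem_range.1 hj
    rw [Nat.mul_sub, mul_one, ← pow_add]
    congr 2
    omega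
  rw [h2', ← mul_assoc, mul_comm (Nat.card _), mul_assoc] at h1
  have h4 : 0 < ∏ j ∈ Finset.range m, Fintype.card F ^ j :=
    Finset.prod_pos (fun j _ => Nat.pow_pos (by omega))
  exact Dvd.intro _ (Nat.eq_of_mul_eq_mul_left h4 h1)

end Cfsg.Agent.Lib.Helper53.OTS
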